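import Cfsg.Agent.Lib.LeechCount.OctCent.Rho
import Cfsg.Agent.S0287
import Cfsg.Agent.S0293
import Cfsg.Agent.S0296

/-!
The kernel of the action modulo two has order 1024; the image is the derived orthogonal group.
-/

set_option autoImplicit false

namespace Cfsg.Agent.LeechCount.OctCent

open Cfsg Cfsg.Agent.Leech Cfsg.Agent.Golay24 Cfsg.Agent.LeechCount MulAction Matrix
open scoped Pointwise commutatorElement

noncomputable section

attribute [local irreducible] normFS dotFS

/-- A permutation fixing the octad pointwise. -/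
def pN (i : Fin 16) : ℕ := fixP.getD i.val 0

/-- A sign set. -/
def sN (s : Fin 64) : ℕ := sgnL64.getD s.val 0

theorem fix_ok : ∀ i, inM24 (pN i) = true ∧ (∀ x ∈ OO, appPt (pN i) x = x) := by decide +kernel

theorem fix_distinct : ∀ i j, (∀ x, appPt (pN i) x = appPt (pN j) x) → i = j := by decide +kernel

/-- The permutation. -/
def sig (i : Fin 16) : Equiv.Perm GolayPt := toPerm (pN i)

theorem sig_apply (i : Fin 16) (x : GolayPt) : sig i x = appPt (pN i) x :=
  toPerm_apply (valid_of_inM24 (fix_ok i).1) x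

theorem sig_M24 (i : Fin 16) : sig i ∈ M24 := toPerm_mem_M24 (fix_ok i).1

theorem sig_fix (i : Fin 16) {x : GolayPt} (hx : x ∈ OO) : sig i x = x := by
  rw [sig_apply]; exact (fix_ok i).2 x hx

theorem sig_octFix (i : Fin 16) : sig i ∈ octFix OO := mem_octFix.2 ⟨sig_M24 i, fun _ hx => sig_fix i hx⟩

theorem sig_inj : Function.Injective sig := fun i j h => fix_distinct i j fun x => by
  rw [← sig_apply, ← sig_apply, h]

theorem sgn_ok : ∀ s, sN s < 2 ^ 24 ∧ inCode (sN s) = true ∧
    ((∀ x ∈ OO, (sN s).testBit (idx x).val = false) ∨ ∀ x ∈ OO, (sN s).testBit (idx x).val = true) := by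
  decide +kernel

theorem sgn_distinct : ∀ s t, sN s = sN t → s = t := by decide +kernel

theorem sgn_complete : (codeList.all fun m =>
    !((octPos.all fun k => !m.testBit k) || octPos.all fun k => m.testBit k) || sgnL64.contains m) = true := by
  decide +kernel

theorem octPos_ok : ∀ k ∈ octPos, ∃ j : Fin 8, (idx (octP j)).val = k := by decide +kernel

/-- A sign set as a set of points. -/
def sS (s : Fin 64) : Finset GolayPt := Golay24.setOf (sN s)

theorem sS_inC (s : Fin 64) : Leech.InC (sS s) :=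
  mem_supports_iff_inCode.2 (by rw [sS, maskOf_setOf (sgn_ok s).1]; exact (sgn_ok s).2.1)

theorem sS_cases (s : Fin 64) : (∀ x ∈ OO, x ∉ sS s) ∨ ∀ x ∈ OO, x ∈ sS s := by
  rcases (sgn_ok s).2.2 with h | h
  · exact Or.inl fun x hx => by rw [sS, Golay24.mem_setOf, h x hx]; simp
  · exact Or.inr fun x hx => by rw [sS, Golay24.mem_setOf, h x hx]

/-- An element of the kernel. -/
def kel (q : Fin 16 × Fin 64) : ↥Co0 := permCo (sig q.1) (sig_M24 q.1) * signCo (sS q.2) (sS_inC q.2)

theorem ap_kel (q : Fin 16 × Fin 64) {x : Vec} (hx : x ∈ leechLattice) :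
    ap (kel q) x = mono (sig q.1) ((sS q.2).image (sig q.1)) x := by
  rw [kel, ap_mul _ _ hx, ap_permCo_mono _ (ap_mem _ hx), ap_signCo_mono _ hx, mono_mono, mul_one,
    ← Finset.bot_eq_empty, bot_symmDiff]

theorem kel_inj : Function.Injective kel := fun a b h => by
  obtain ⟨h1, h2⟩ := mono_unique (σ := sig a.1) (σ' := sig b.1) (S := (sS a.2).image (sig a.1))
    (S' := (sS b.2).image (sig b.1)) fun i => by rw [← ap_kel a (e8_mem i), ← ap_kel b (e8_mem i), h]
  have e1 : a.1 = b.1 := sig_inj h1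
  rw [← e1] at h2
  have e2 : sS a.2 = sS b.2 := Finset.image_injective (sig a.1).injective h2
  exact Prod.ext e1 (sgn_distinct _ _ (setOf_inj (sgn_ok _).1 (sgn_ok _).1 e2))

theorem kel_frame (q : Fin 16 × Fin 64) : kel q ∈ frame :=
  frame.mul_mem (permCo_mem_frame _) (signCo_mem_frame _)

theorem frameHom_kel (q : Fin 16 × Fin 64) :
    (frameHom ⟨kel q, kel_frame q⟩ : Equiv.Perm GolayPt) = sig q.1 := by
  obtain ⟨S, -, h⟩ := frameHom_spec ⟨kel q, kel_frame q⟩
  exact (mono_unique fun i => (h _ (e8_mem i)).symm.trans (ap_kel q (e8_mem i))).1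

theorem octFix_le : octFix OO ≤ octStab OO := fun g hg => ⟨(mem_octFix.1 hg).1, by
  refine Finset.eq_of_subset_of_card_le (fun y hy => ?_) (le_of_eq (Finset.card_smul_finset g OO).symm)
  obtain ⟨z, hz, rfl⟩ := Finset.mem_smul_finset.1 hy
  rwa [Equiv.Perm.smul_def, (mem_octFix.1 hg).2 z hz]⟩

theorem kel_mem (q : Fin 16 × Fin 64) : kel q ∈ CE :=
  (frame_comm_iff ⟨kel q, kel_frame q⟩).2 (by rw [frameHom_kel]; exact octFix_le (sig_octFix _))

theorem kel_LO (q : Fin 16 × Fin 64) {x : Vec} (hx : x ∈ LO) : ap (kel q) x = x ∨ ap (kel q) x = -x := by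
  obtain ⟨hl, h0⟩ := LO_le hx
  have hval : ∀ i, i ∈ OO → (sig q.1).symm i = i := fun i hi => by
    rw [Equiv.symm_apply_eq, sig_fix _ hi]
  have hoff : ∀ i, i ∉ OO → (sig q.1).symm i ∉ OO := fun i hi h => hi (by
    have := sig_fix q.1 h
    rw [Equiv.apply_symm_apply] at this
    rwa [← this] at h)
  have hmem : ∀ i, i ∈ OO → (i ∈ (sS q.2).image (sig q.1) ↔ i ∈ sS q.2) := fun i hi => by
    conv_lhs => rw [← sig_fix q.1 hi]
    rw [Finset.mem_image]
    exact ⟨fun ⟨y, hy, e⟩ => (sig q.1).injective e ▸ hy, fun h => ⟨i, h, rfl⟩⟩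
  rcases sS_cases q.2 with hc | hc
  · refine Or.inl (funext fun i => ?_)
    rw [ap_kel q hl]
    simp only [mono]
    by_cases hi : i ∈ OO
    · rw [if_neg (fun h => hc i hi ((hmem i hi).1 h)), hval i hi]
    · simp [h0 _ (hoff i hi), h0 i hi]
  · refine Or.inr (funext fun i => ?_)
    rw [ap_kel q hl]
    simp only [mono]
    by_cases hi : i ∈ OO
    · rw [if_pos ((hmem i hi).2 (hc i hi)), hval i hi]; rfl
    · simp [h0 _ (hoff i hi), h0 i hi]

theorem kel_ker (q : Fin 16 × Fin 64) : rho ⟨kel q, kel_mem q⟩ = 1 := rho_ker.2 fun x => by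
  show crd (ap (kel q) (x : Vec)) = crd (x : Vec)
  rcases kel_LO q x.2 with h | h <;> rw [h]
  exact crd_neg x.2

/-- A vector with two entries of absolute value four. -/
def root (a b : Fin 8) (s t : Bool) : Vec := fun i =>
  if i = octP a then (if s then -4 else 4) else if i = octP b then (if t then -4 else 4) else 0

theorem root_check : ∀ k a b : Fin 8, ∀ s t : Bool, k ≠ 7 → a ≠ b →
    crd (root a b s t) = crd (root k 7 false false) → s = t ∧ ((a = k ∧ b = 7) ∨ (a = 7 ∧ b = k)) := by
  decide +kernel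

theorem root_e44 : ∀ k : Fin 8, k ≠ 7 → root k 7 false false = e44 (octP k) (octP 7) := fun k _ => by
  funext i
  simp only [root, e44, Bool.false_eq_true, if_false]
  by_cases h1 : i = octP k <;> by_cases h2 : i = octP 7 <;> simp [h1, h2]

theorem ker_exists (g : ↥CE) (hg : rho g = 1) : ∃ q, (g : ↥Co0) = kel q := by
  have hk := rho_ker.1 hg
  have hfr : (g : ↥Co0) ∈ frame := by
    have h : g ∈ frame.subgroupOf CE := by
      rw [← stab_eq, mem_stabilizer_iff]
      exact (M_mulVec g ⟨_, e8_LO none_mem⟩).trans (hk _)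
    exact h
  obtain ⟨S, hS, hgS⟩ := frameHom_spec ⟨g, hfr⟩
  set σ : Equiv.Perm GolayPt := (frameHom ⟨g, hfr⟩ : Equiv.Perm GolayPt)
  have hst : σ ∈ octStab OO := (frame_comm_iff ⟨g, hfr⟩).1 g.2
  obtain ⟨hOO, hinj⟩ := octP_image
  have hon : ∀ j, octP j ∈ OO := fun j => hOO ▸ Finset.mem_image_of_mem _ (Finset.mem_univ j)
  have hσj : ∀ j, ∃ j', σ (octP j) = octP j' := fun j => by
    have := (octStab_iff hst (octP j)).2 (hon j)
    rw [hOO, Finset.mem_image] at this
    obtain ⟨j', -, e⟩ := this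
    exact ⟨j', e.symm⟩
  choose π hπ using hσj
  have hπinj : Function.Injective π := fun a b e => hinj (σ.injective (by rw [hπ, hπ, e]))
  have key : ∀ k : Fin 8, k ≠ 7 → decide (σ (octP k) ∈ S) = decide (σ (octP 7) ∈ S) ∧
      ((π k = k ∧ π 7 = 7) ∨ (π k = 7 ∧ π 7 = k)) := by
    intro k hk7
    have hne : octP k ≠ octP 7 := fun e => hk7 (hinj e)
    have hL : root k 7 false false ∈ LO := by
      rw [root_e44 k hk7]
      refine mem_LO (e44_mem hne) fun i hi => ?_
      simp only [e44]
      rw [if_neg]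
      rintro (rfl | rfl) <;> exact hi (hon _)
    refine root_check k (π k) (π 7) (decide (σ (octP k) ∈ S)) (decide (σ (octP 7) ∈ S)) hk7
      (fun e => hk7 (hπinj e)) ?_
    have himg : ap (g : ↥Co0) (root k 7 false false) =
        root (π k) (π 7) (decide (σ (octP k) ∈ S)) (decide (σ (octP 7) ∈ S)) := by
      rw [hgS _ (LO_le hL).1]
      funext i
      obtain ⟨y, rfl⟩ := σ.surjective i
      simp only [mono, Equiv.symm_apply_apply, root, ← hπ, σ.injective.eq_iff, decide_eq_true_eq,
        Bool.false_eq_true, if_false]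
      by_cases h1 : y = octP k
      · subst h1; simp
      · by_cases h2 : y = octP 7
        · subst h2; simp [h1]
        · simp [h1, h2]
    have := hk ⟨_, hL⟩
    rw [cHom_apply, cHom_apply] at this
    rw [← himg]
    exact this
  have h77 : π 7 = 7 := by
    rcases (key 0 (by decide)).2 with h | h
    · exact h.2
    rcases (key 1 (by decide)).2 with h' | h'
    · exact h'.2
    · exact absurd (h.2.symm.trans h'.2) (by decide)
  have hfix : ∀ x ∈ OO, σ x = x := fun x hx => by
    rw [hOO, Finset.mem_image] at hx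
    obtain ⟨j, -, rfl⟩ := hx
    rw [hπ]
    by_cases hj : j = 7
    · rw [hj, h77]
    rcases (key j hj).2 with h | h
    · rw [h.1]
    · exact absurd (h.2.symm.trans h77) hj
  have hsig : σ ∈ octFix OO := mem_octFix.2 ⟨(frameHom ⟨g, hfr⟩).2, hfix⟩
  obtain ⟨i, hi⟩ : ∃ i, sig i = σ := by
    let f : Fin 16 → ↥(octFix OO) := fun i => ⟨sig i, sig_octFix i⟩
    have hf : Function.Injective f := fun a b e => sig_inj (congrArg Subtype.val e)
    have hb : Function.Bijective f := (Nat.bijective_iff_injective_and_card f).2 ⟨hf, by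
      rw [card_octFix OO_octad]; simp⟩
    obtain ⟨i, hi⟩ := hb.2 ⟨σ, hsig⟩
    exact ⟨i, congrArg Subtype.val hi⟩
  let T : Finset GolayPt := S.image σ.symm
  have hT : Leech.InC T := (M24_map (M24.inv_mem (frameHom ⟨g, hfr⟩).2) S).2 hS
  have hTmem : ∀ j : Fin 8, octP j ∈ T ↔ octP j ∈ S := fun j => by
    constructor
    · intro h
      obtain ⟨y, hy, e⟩ := Finset.mem_image.1 h
      rw [Equiv.symm_apply_eq, hfix _ (hon j)] at e
      rwa [← e]
    · intro h
      exact Finset.mem_image.2 ⟨_, h, by rw [Equiv.symm_apply_eq, hfix _ (hon j)]⟩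
  have hall : ∀ j : Fin 8, octP j ∈ S ↔ octP 7 ∈ S := fun j => by
    by_cases hj : j = 7
    · rw [hj]
    have := (key j hj).1
    rw [hfix _ (hon j), hfix _ (hon 7)] at this
    simpa using this
  obtain ⟨s, hs⟩ : ∃ s, sS s = T := by
    have hm : maskOf T ∈ codeList := mem_supports_iff.1 hT
    have hor : ((octPos.all fun k => !(maskOf T).testBit k) || octPos.all fun k => (maskOf T).testBit k) = true := by
      have hb : ∀ k ∈ octPos, (maskOf T).testBit k = decide (octP 7 ∈ S) := fun k hk => by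
        obtain ⟨j, rfl⟩ := octPos_ok k hk
        by_cases h : octP 7 ∈ S
        · have h' : octP j ∈ Golay24.setOf (maskOf T) := by rw [setOf_maskOf, hTmem, hall]; exact h
          rw [Golay24.mem_setOf] at h'
          rw [h', decide_eq_true h]
        · have h' : octP j ∉ Golay24.setOf (maskOf T) := by rw [setOf_maskOf, hTmem, hall]; exact h
          rw [Golay24.mem_setOf, Bool.not_eq_true] at h'
          rw [h', decide_eq_false h]
      simp only [Bool.or_eq_true, List.all_eq_true, Bool.not_eq_true']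
      by_cases h : octP 7 ∈ S
      · exact Or.inr fun k hk => by rw [hb k hk, decide_eq_true h]
      · exact Or.inl fun k hk => by rw [hb k hk, decide_eq_false h]
    have hc := List.all_eq_true.1 sgn_complete _ hm
    rw [hor, Bool.not_true, Bool.false_or, List.contains_iff_mem] at hc
    obtain ⟨n, hn, e⟩ := List.mem_iff_getElem.1 hc
    refine ⟨⟨n, hn⟩, ?_⟩
    rw [sS, sN, List.getD_eq_getElem _ _ hn, e, setOf_maskOf]
  refine ⟨(i, s), ext_ap fun x hx => ?_⟩
  rw [ap_kel _ hx, hgS x hx, hi, hs]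
  congr 1
  rw [Finset.image_image]
  simp

theorem card_ker : Nat.card ↥rho.ker = 1024 := by
  let f : Fin 16 × Fin 64 → ↥rho.ker := fun q => ⟨⟨kel q, kel_mem q⟩, kel_ker q⟩
  have hf : Function.Bijective f := by
    refine ⟨fun a b e => kel_inj (congrArg (fun z : ↥rho.ker => ((z : ↥CE) : ↥Co0)) e), fun g => ?_⟩
    obtain ⟨q, hq⟩ := ker_exists g.1 g.2
    exact ⟨q, Subtype.ext (Subtype.ext hq.symm)⟩
  rw [← Nat.card_congr (Equiv.ofBijective f hf)]
  simp

theorem card_iso : Nat.card ↥(isometryGroup (ZMod 2) (quadFormPlus 4 (ZMod 2))) = 348364800 := by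
  rw [S0287.result (F := ZMod 2) (ZMod.card 2) 4 (by norm_num)]
  norm_num [Finset.prod_range_succ]

theorem card_range : Nat.card ↥rho.range = 174182400 := by
  have h := rho.ker.card_mul_index
  rw [Subgroup.index_ker, card_ker, card_CE] at h
  omega

theorem card_pomega : Nat.card (POmega (ZMod 2) (quadFormPlus 4 (ZMod 2))) = 174182400 := by
  have h := S0293.result (F := ZMod 2) (ZMod.card 2) 4 le_rfl
  norm_num [Finset.prod_range_succ] at h
  exact h

theorem range_eq : rho.range = Omega (ZMod 2) (quadFormPlus 4 (ZMod 2)) := by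
  have hi : rho.range.index = 2 := by
    have h := rho.range.card_mul_index
    rw [card_range, card_iso] at h
    omega
  have hle : Omega (ZMod 2) (quadFormPlus 4 (ZMod 2)) ≤ rho.range := by
    show commutator _ ≤ _
    rw [commutator_def, Subgroup.commutator_le]
    intro a _ b _
    simp only [commutatorElement_def, Subgroup.mul_mem_iff_of_index_two hi, inv_mem_iff]
    tauto
  have h := Subgroup.card_eq_card_quotient_mul_card_subgroup
    (Subgroup.center ↥(Omega (ZMod 2) (quadFormPlus 4 (ZMod 2))))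
  refine (Subgroup.eq_of_le_of_card_ge hle ?_).symm
  rw [card_range, ← card_pomega, h]
  exact Nat.le_mul_of_pos_right _ Nat.card_pos

theorem card_omega : Nat.card ↥(Omega (ZMod 2) (quadFormPlus 4 (ZMod 2))) = 174182400 := by
  rw [← range_eq, card_range]

/-- The map onto the derived group. -/
def phi : ↥CE →* ↥(Omega (ZMod 2) (quadFormPlus 4 (ZMod 2))) :=
  (MulEquiv.subgroupCongr range_eq).toMonoidHom.comp rho.rangeRestrict

theorem phi_surjective : Function.Surjective phi :=
  (MulEquiv.subgroupCongr range_eq).surjective.comp rho.rangeRestrict_surjective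

theorem phi_ker : phi.ker = rho.ker := by
  ext g
  rw [MonoidHom.mem_ker, MonoidHom.mem_ker]
  show MulEquiv.subgroupCongr range_eq (rho.rangeRestrict g) = 1 ↔ _
  rw [map_eq_one_iff _ (MulEquiv.subgroupCongr range_eq).injective, Subtype.ext_iff]
  rfl

theorem omega_simple : IsSimpleGroup ↥(Omega (ZMod 2) (quadFormPlus 4 (ZMod 2))) := by
  haveI : IsSimpleGroup (POmega (ZMod 2) (quadFormPlus 4 (ZMod 2))) := S0296.result 4 le_rfl
  haveI : Finite ↥(Omega (ZMod 2) (quadFormPlus 4 (ZMod 2))) :=
    Nat.finite_of_card_ne_zero (by rw [card_omega]; norm_num)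
  have hb : Function.Bijective (QuotientGroup.mk' (Subgroup.center ↥(Omega (ZMod 2) (quadFormPlus 4 (ZMod 2))))) :=
    (Nat.bijective_iff_surjective_and_card _).2 ⟨QuotientGroup.mk'_surjective _, card_omega.trans card_pomega.symm⟩
  exact (MulEquiv.ofBijective _ hb).isSimpleGroup

end

end Cfsg.Agent.LeechCount.OctCent
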