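import Cfsg.Agent.Lib.LeechCount.OctCent.Data
import Cfsg.Agent.Lib.LeechCount.List552
import Cfsg.Agent.Lib.Leech.Frame
import Cfsg.Prelude.Def_Classical

/-!
The sublattice supported on one octad: nine spanning vectors, its reduction modulo two in eight
hyperbolic coordinates, and the quadratic form there.
-/

set_option autoImplicit false

namespace Cfsg.Agent.LeechCount.OctCent

open Cfsg Cfsg.Agent.Leech Cfsg.Agent.Golay24 Cfsg.Agent.LeechCount

noncomputable section

attribute [local irreducible] normFS dotFS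

/-- The index type of the coordinates. -/
abbrev Ix : Type := Fin 4 ⊕ Fin 4

/-- A position in the lists. -/
def fl : Ix → ℕ
  | .inl i => i.val
  | .inr i => i.val + 4

/-- The octad. -/
abbrev OO : Finset GolayPt := Golay24.setOf octM

/-- The spanning vectors. -/
def gV (k : Fin 9) : Vec := vecOf (gspL.getD k.val [])

/-- The basis. -/
def bV (j : Ix) : Vec := vecOf (bvL.getD (fl j) [])

/-- A point of the octad. -/
def octP (j : Fin 8) : GolayPt := pt ⟨octPos.getD j.val 0 % 24, Nat.mod_lt _ (by norm_num)⟩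

/-- The sublattice. -/
def LO : AddSubgroup Vec := AddSubgroup.closure (Set.range gV)

theorem gV_leech_check : ∀ k, (∀ i, (2 : ℤ) ∣ gV k i - 0) ∧ (8 : ℤ) ∣ (∑ i, gV k i) - 4 * 0 ∧
    inCode (maskOf (pat 0 (gV k))) = true := by
  decide +kernel

theorem gV_off : ∀ k, ∀ i, i ∉ OO → gV k i = 0 := by decide +kernel

/-- The values on the octad. -/
def gVal (k : Fin 9) (j : Fin 8) : ℤ :=
  if k.val = 0 then 2 else if k.val = 8 then (if j.val = 7 then 8 else 0)
    else if j.val + 1 = k.val then 4 else if j.val = 7 then -4 else 0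

theorem gV_on : ∀ k j, gV k (octP j) = gVal k j := by decide +kernel

theorem octP_image : OO = Finset.univ.image octP ∧ Function.Injective octP := by
  unfold Function.Injective
  decide +kernel

theorem gV_mem (k : Fin 9) : gV k ∈ LO := AddSubgroup.subset_closure ⟨k, rfl⟩

theorem LO_le {x : Vec} (hx : x ∈ LO) : x ∈ leechLattice ∧ ∀ i, i ∉ OO → x i = 0 := by
  induction hx using AddSubgroup.closure_induction with
  | mem x hx =>
    obtain ⟨k, rfl⟩ := hx
    obtain ⟨h1, h2, h3⟩ := gV_leech_check k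
    exact ⟨(mem_leech_iff _).2 ⟨0, h1, h2, mem_supports_iff_inCode.2 h3⟩, gV_off k⟩
  | zero => exact ⟨zero_mem _, fun i _ => rfl⟩
  | add x y _ _ hx hy => exact ⟨add_mem hx.1 hy.1, fun i hi => by simp [hx.2 i hi, hy.2 i hi]⟩
  | neg x _ hx => exact ⟨neg_mem hx.1, fun i hi => by simp [hx.2 i hi]⟩

theorem mem_LO {x : Vec} (hx : x ∈ leechLattice) (hs : ∀ i, i ∉ OO → x i = 0) : x ∈ LO := by
  obtain ⟨hOO, hinj⟩ := octP_image
  obtain ⟨i₀, hi₀⟩ : ∃ i, i ∉ OO := by decide +kernel
  have hL : LatM 0 x := latM_of_mem hx (i := i₀) (by simp [hs i₀ hi₀])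
  obtain ⟨h2, h8, hC⟩ := hL
  have hsum : (∑ i, x i) = ∑ j, x (octP j) := by
    rw [← Finset.sum_subset (Finset.subset_univ OO) (fun i _ hi => hs i hi), hOO,
      Finset.sum_image fun a _ b _ h => hinj h]
  rw [hsum, Fin.sum_univ_eight] at h8
  have hsub : pat 0 x ⊆ OO := fun i hi => by
    by_contra h
    rw [mem_pat, hs i h] at hi
    simp at hi
  have hcard : OO.card = 8 := by decide +kernel
  have hp : pat 0 x = ∅ ∨ pat 0 x = OO := by
    rcases InC_weights hC with h | h | h | h | h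
    · exact Or.inl (Finset.card_eq_zero.1 h)
    · exact Or.inr (Finset.eq_of_subset_of_card_le hsub (by omega))
    all_goals
      have := Finset.card_le_card hsub
      omega
  obtain ⟨p, hp'⟩ : ∃ p : ℤ, ∀ j, (4 : ℤ) ∣ x (octP j) - 2 * p := by
    rcases hp with h | h
    · refine ⟨0, fun j => ?_⟩
      have := Finset.eq_empty_iff_forall_notMem.1 h (octP j)
      rw [mem_pat, not_not] at this
      simpa using this
    · refine ⟨1, fun j => ?_⟩
      have hj : octP j ∈ pat 0 x := by rw [h, hOO]; exact Finset.mem_image_of_mem _ (Finset.mem_univ j)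
      rw [mem_pat] at hj
      have := h2 (octP j)
      omega
  let a : Fin 8 → ℤ := fun j => (x (octP j) - 2 * p) / 4
  let t : ℤ := (x (octP 7) - 2 * p + 4 * (a 0 + a 1 + a 2 + a 3 + a 4 + a 5 + a 6)) / 8
  have ha : ∀ j, x (octP j) = 2 * p + 4 * a j := fun j => by
    have := hp' j
    simp only [a]
    omega
  have ht : 8 * t = x (octP 7) - 2 * p + 4 * (a 0 + a 1 + a 2 + a 3 + a 4 + a 5 + a 6) := by
    have := ha 0; have := ha 1; have := ha 2; have := ha 3; have := ha 4; have := ha 5; have := ha 6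
    have := ha 7
    simp only [t]
    omega
  have hx' : x = p • gV 0 + a 0 • gV 1 + a 1 • gV 2 + a 2 • gV 3 + a 3 • gV 4 + a 4 • gV 5 + a 5 • gV 6 +
      a 6 • gV 7 + t • gV 8 := by
    funext i
    simp only [Pi.add_apply, Pi.smul_apply, smul_eq_mul]
    by_cases hi : i ∈ OO
    · rw [hOO, Finset.mem_image] at hi
      obtain ⟨j, -, rfl⟩ := hi
      simp only [gV_on]
      fin_cases j <;> simp [gVal, ha] <;> linarith [ha 7]
    · simp [gV_off _ i hi, hs i hi]
  rw [hx']
  exact add_mem (add_mem (add_mem (add_mem (add_mem (add_mem (add_mem (add_mem (zsmul_mem (gV_mem 0) _)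
    (zsmul_mem (gV_mem 1) _)) (zsmul_mem (gV_mem 2) _)) (zsmul_mem (gV_mem 3) _)) (zsmul_mem (gV_mem 4) _))
    (zsmul_mem (gV_mem 5) _)) (zsmul_mem (gV_mem 6) _)) (zsmul_mem (gV_mem 7) _)) (zsmul_mem (gV_mem 8) _)

theorem dot_add_left (a b c : Vec) : dotInt (a + b) c = dotInt a c + dotInt b c := by
  simp only [dotInt, Pi.add_apply, ← Finset.sum_add_distrib]
  exact Finset.sum_congr rfl fun i _ => by ring

theorem dot_add_right' (a b c : Vec) : dotInt a (b + c) = dotInt a b + dotInt a c := by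
  rw [dot_comm, dot_add_left, dot_comm b, dot_comm c]

theorem dot_neg_left' (a c : Vec) : dotInt (-a) c = -dotInt a c := by
  simp [dotInt]

theorem dot_zero_left (c : Vec) : dotInt 0 c = 0 := by simp [dotInt]

theorem table16 : ∀ k l, (16 : ℤ) ∣ dotInt (gV k) (gV l) := by decide +kernel

theorem dot16 {x y : Vec} (hx : x ∈ LO) (hy : y ∈ LO) : (16 : ℤ) ∣ dotInt x y := by
  induction hx, hy using AddSubgroup.closure_induction₂ with
  | mem x y hx hy => obtain ⟨k, rfl⟩ := hx; obtain ⟨l, rfl⟩ := hy; exact table16 k l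
  | zero_left y _ => simp [dot_zero_left]
  | zero_right x _ => simp [dot_comm x, dot_zero_left]
  | add_left x x' y _ _ _ h h' => rw [dot_add_left]; exact dvd_add h h'
  | add_right y y' x _ _ _ h h' => rw [dot_add_right']; exact dvd_add h h'
  | neg_left x y _ _ h => rw [dot_neg_left']; exact h.neg_right
  | neg_right x y _ _ h => rw [dot_comm, dot_neg_left', dot_comm]; exact h.neg_right

theorem bV_check : ∀ j, (∀ i, i ∉ OO → bV j i = 0) ∧ (∀ i, (2 : ℤ) ∣ bV j i - 0) ∧
    (8 : ℤ) ∣ (∑ i, bV j i) - 4 * 0 ∧ inCode (maskOf (pat 0 (bV j))) = true := by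
  decide +kernel

theorem bV_mem (j : Ix) : bV j ∈ LO := by
  obtain ⟨h0, h1, h2, h3⟩ := bV_check j
  exact mem_LO ((mem_leech_iff _).2 ⟨0, h1, h2, mem_supports_iff_inCode.2 h3⟩) h0

/-- A coordinate modulo two. -/
def crd (x : Vec) (j : Ix) : ZMod 2 := ((dotInt x (bV j.swap) / 16 : ℤ) : ZMod 2)

/-- The coordinates modulo two. -/
def cHom : ↥LO →+ (Ix → ZMod 2) :=
  AddMonoidHom.mk' (fun x => crd (x : Vec)) fun x y => by
    funext j
    simp only [crd, AddSubgroup.coe_add, Pi.add_apply, dot_add_left]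
    rw [Int.add_ediv_of_dvd_left (dot16 x.2 (bV_mem _)), Int.cast_add]

theorem cHom_apply (x : ↥LO) : cHom x = crd (x : Vec) := rfl

/-- A basis vector in the sublattice. -/
def BV (j : Ix) : ↥LO := ⟨bV j, bV_mem j⟩

theorem crd_basis : ∀ j k, crd (bV j) k = if j = k then 1 else 0 := by decide +kernel

theorem wit_check : ∀ (k : Fin 9) (i : GolayPt), gV k i =
    (∑ j : Ix, (witL.getD k.val ([], [])).1.getD (fl j) 0 * bV j i) +
      2 * ∑ l : Fin 9, (witL.getD k.val ([], [])).2.getD l.val 0 * gV l i := by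
  decide +kernel

theorem decomp (x : ↥LO) : ∃ c : Ix → ℤ, ∃ w : ↥LO, x = (∑ j, c j • BV j) + (2 : ℤ) • w := by
  obtain ⟨x, hx⟩ := x
  induction hx using AddSubgroup.closure_induction with
  | mem x hx =>
    obtain ⟨k, rfl⟩ := hx
    refine ⟨fun j => (witL.getD k.val ([], [])).1.getD (fl j) 0,
      ∑ l : Fin 9, (witL.getD k.val ([], [])).2.getD l.val 0 • (⟨gV l, gV_mem l⟩ : ↥LO), ?_⟩
    apply Subtype.ext
    funext i
    simp only [BV, AddSubgroup.coe_add, AddSubgroup.coe_zsmul, AddSubgroup.val_finsetSum, Pi.add_apply,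
      Pi.smul_apply, Finset.sum_apply, smul_eq_mul]
    exact wit_check k i
  | zero => exact ⟨0, 0, by simp; rfl⟩
  | add x y hxm hym hx hy =>
    obtain ⟨c, w, e⟩ := hx
    obtain ⟨c', w', e'⟩ := hy
    refine ⟨c + c', w + w', ?_⟩
    rw [show (⟨x + y, add_mem hxm hym⟩ : ↥LO) = ⟨x, hxm⟩ + ⟨y, hym⟩ from rfl, e, e']
    simp only [Pi.add_apply, add_smul, Finset.sum_add_distrib, smul_add]
    abel
  | neg x hxm hx =>
    obtain ⟨c, w, e⟩ := hx
    refine ⟨-c, -w, ?_⟩
    rw [show (⟨-x, neg_mem hxm⟩ : ↥LO) = -⟨x, hxm⟩ from rfl, e]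
    simp only [Pi.neg_apply, neg_smul, Finset.sum_neg_distrib, smul_neg]
    abel

theorem cHom_two (w : ↥LO) : cHom ((2 : ℤ) • w) = 0 := by
  rw [map_zsmul]
  funext j
  simp only [Pi.smul_apply, Pi.zero_apply, zsmul_eq_mul]
  rw [show ((2 : ℤ) : ZMod 2) = 0 from by decide, zero_mul]

theorem cHom_basis (c : Ix → ℤ) (w : ↥LO) :
    cHom ((∑ j, c j • BV j) + (2 : ℤ) • w) = fun j => (c j : ZMod 2) := by
  rw [map_add, cHom_two, add_zero, map_sum]
  funext k
  simp only [Finset.sum_apply, map_zsmul, Pi.mul_apply, Pi.intCast_apply, cHom_apply, BV, crd_basis, zsmul_eq_mul, mul_ite,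
    mul_one, mul_zero, Finset.sum_ite_eq', Finset.mem_univ, if_true]

theorem cHom_eq_zero {x : ↥LO} (h : cHom x = 0) : ∃ w : ↥LO, x = (2 : ℤ) • w := by
  obtain ⟨c, w, rfl⟩ := decomp x
  rw [cHom_basis] at h
  have hc : ∀ j, ∃ d : ℤ, c j = 2 * d := fun j => by
    have := congrFun h j
    simp only [Pi.zero_apply] at this
    obtain ⟨d, hd⟩ := (ZMod.intCast_zmod_eq_zero_iff_dvd (c j) 2).1 this
    exact ⟨d, by exact_mod_cast hd⟩
  choose d hd using hc
  refine ⟨(∑ j, d j • BV j) + w, ?_⟩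
  rw [smul_add, Finset.smul_sum]
  congr 1
  exact Finset.sum_congr rfl fun j _ => by rw [hd, mul_smul]

theorem cHom_surj (u : Ix → ZMod 2) : ∃ x : ↥LO, cHom x = u := by
  refine ⟨(∑ j, ((u j).val : ℤ) • BV j) + (2 : ℤ) • 0, ?_⟩
  rw [cHom_basis]
  funext j
  simp

/-- The form on the sublattice. -/
def qn (x : Vec) : ZMod 2 := ((sqNorm x / 32 : ℤ) : ZMod 2)

theorem qf_polar (u v : Ix → ZMod 2) : quadFormPlus 4 (ZMod 2) (u + v) =
    quadFormPlus 4 (ZMod 2) u + quadFormPlus 4 (ZMod 2) v +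
      ∑ i : Fin 4, (u (.inl i) * v (.inr i) + v (.inl i) * u (.inr i)) := by
  simp only [quadFormPlus, Pi.add_apply, ← Finset.sum_add_distrib]
  exact Finset.sum_congr rfl fun i _ => by ring

theorem polar_table : ∀ k l, ((dotInt (gV k) (gV l) / 16 : ℤ) : ZMod 2) =
    ∑ i : Fin 4, (crd (gV k) (.inl i) * crd (gV l) (.inr i) + crd (gV l) (.inl i) * crd (gV k) (.inr i)) := by
  decide +kernel

theorem q_table : ∀ k, (32 : ℤ) ∣ sqNorm (gV k) ∧ qn (gV k) = quadFormPlus 4 (ZMod 2) (crd (gV k)) := by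
  decide +kernel

theorem polar_eq {x y : Vec} (hx : x ∈ LO) (hy : y ∈ LO) : ((dotInt x y / 16 : ℤ) : ZMod 2) =
    ∑ i : Fin 4, (crd x (.inl i) * crd y (.inr i) + crd y (.inl i) * crd x (.inr i)) := by
  have hadd : ∀ {a b : Vec}, a ∈ LO → b ∈ LO → ∀ j, crd (a + b) j = crd a j + crd b j := fun {a b} ha hb j =>
    congrFun (cHom.map_add ⟨a, ha⟩ ⟨b, hb⟩) j
  have hneg : ∀ {a : Vec}, a ∈ LO → ∀ j, crd (-a) j = -crd a j := fun {a} ha j =>
    congrFun (cHom.map_neg ⟨a, ha⟩) j
  have h0 : ∀ j, crd 0 j = 0 := fun j => congrFun cHom.map_zero j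
  induction hx, hy using AddSubgroup.closure_induction₂ with
  | mem x y hx hy => obtain ⟨k, rfl⟩ := hx; obtain ⟨l, rfl⟩ := hy; exact polar_table k l
  | zero_left y _ => simp [dot_zero_left, h0]
  | zero_right x _ => simp [dot_comm x, dot_zero_left, h0]
  | add_left x x' y hx hx' hy h h' =>
    rw [dot_add_left, Int.add_ediv_of_dvd_left (dot16 hx hy), Int.cast_add, h, h', ← Finset.sum_add_distrib]
    exact Finset.sum_congr rfl fun i _ => by rw [hadd hx hx', hadd hx hx']; ring
  | add_right y y' x hy hy' hx h h' =>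
    rw [dot_add_right', Int.add_ediv_of_dvd_left (dot16 hx hy), Int.cast_add, h, h', ← Finset.sum_add_distrib]
    exact Finset.sum_congr rfl fun i _ => by rw [hadd hy hy', hadd hy hy']; ring
  | neg_left x y hx hy h =>
    rw [dot_neg_left', Int.neg_ediv_of_dvd (dot16 hx hy), Int.cast_neg, h, ← Finset.sum_neg_distrib]
    exact Finset.sum_congr rfl fun i _ => by rw [hneg hx, hneg hx]; ring
  | neg_right x y hx hy h =>
    rw [dot_comm, dot_neg_left', dot_comm y, Int.neg_ediv_of_dvd (dot16 hx hy), Int.cast_neg, h,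
      ← Finset.sum_neg_distrib]
    exact Finset.sum_congr rfl fun i _ => by rw [hneg hy, hneg hy]; ring

theorem q_eq {x : Vec} (hx : x ∈ LO) :
    (32 : ℤ) ∣ sqNorm x ∧ qn x = quadFormPlus 4 (ZMod 2) (crd x) := by
  induction hx using AddSubgroup.closure_induction with
  | mem x hx => obtain ⟨k, rfl⟩ := hx; exact q_table k
  | zero => decide +kernel
  | add x y hxm hym hx hy =>
    have hd := dot16 hxm hym
    have e : sqNorm (x + y) = sqNorm x + sqNorm y + 2 * dotInt x y := by rw [sqNorm_add]; ring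
    have hsplit : sqNorm (x + y) / 32 = sqNorm x / 32 + sqNorm y / 32 + dotInt x y / 16 := by
      have := hx.1; have := hy.1; omega
    refine ⟨by have := hx.1; have := hy.1; omega, ?_⟩
    rw [qn, hsplit, Int.cast_add, Int.cast_add, polar_eq hxm hym,
      show crd (x + y) = crd x + crd y from cHom.map_add ⟨x, hxm⟩ ⟨y, hym⟩, qf_polar, ← hx.2, ← hy.2]
    rfl
  | neg x hxm hx =>
    have e : crd (-x) = -crd x := cHom.map_neg ⟨x, hxm⟩
    rw [e, show -crd x = crd x from funext fun j => ZMod.neg_eq_self_mod_two _, qn, sqNorm_neg]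
    exact hx

end

end Cfsg.Agent.LeechCount.OctCent
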