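import Cfsg.Agent.Lib.LeechCount.OctCent.Kernel
import Cfsg.Agent.Lib.BigExtra.Criteria
import Cfsg.Agent.Lib.Components.PTimesQ

/-!
The involution centraliser in the quotient of the automorphism group by its centre: an extraspecial
group of order 512 extended by the derived orthogonal group in eight dimensions.
-/

set_option autoImplicit false

namespace Cfsg.Agent.LeechCount.OctCent

open Cfsg Cfsg.Agent.Leech Cfsg.Agent.Golay24 Cfsg.Agent.LeechCount MulAction Matrix
open scoped commutatorElement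

noncomputable section

attribute [local irreducible] normFS dotFS

theorem card_centre2 : Nat.card ↥(Subgroup.center ↥Co0) = 2 := by
  have : (Subgroup.center ↥Co0 : Set ↥Co0) = {1, negOne} := Set.ext fun g => center_eq
  rw [show Nat.card ↥(Subgroup.center ↥Co0) = Nat.card (Subgroup.center ↥Co0 : Set ↥Co0) from rfl, this,
    Nat.card_coe_set_eq, Set.ncard_pair negOne_ne_one.symm]

theorem perm_sign_conj' {σ : Equiv.Perm GolayPt} (hσ : σ ∈ M24) {S : Finset GolayPt} (hS : Leech.InC S) :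
    permCo σ hσ * signCo S hS = signCo (S.image σ) ((M24_map hσ S).2 hS) * permCo σ hσ := ext_ap fun x hx => by
  rw [ap_mul _ _ hx, ap_mul _ _ hx, ap_permCo_mono hσ (ap_mem _ hx), ap_signCo_mono hS hx,
    ap_signCo_mono _ (ap_mem _ hx), ap_permCo_mono hσ hx, mono_mono, mono_mono, mul_one, one_mul,
    ← Finset.bot_eq_empty, bot_symmDiff]
  congr 1
  ext y
  simp [Finset.mem_symmDiff]

/-- The quotient map. -/
abbrev pi1 : ↥Co0 →* Spor.Co1 := QuotientGroup.mk' (Subgroup.center ↥Co0)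

/-- The involution. -/
def zz : Spor.Co1 := pi1 E0

/-- Its centraliser. -/
abbrev C1 : Subgroup Spor.Co1 := Subgroup.centralizer ({zz} : Set Spor.Co1)

theorem mem_C1 {x : Spor.Co1} : x ∈ C1 ↔ x * zz = zz * x := by
  rw [Subgroup.mem_centralizer_iff]
  simp only [Set.mem_singleton_iff, forall_eq]
  exact eq_comm

theorem co1_finite : Finite Spor.Co1 :=
  haveI : Finite ↥Co0 := Nat.finite_of_card_ne_zero (by rw [co0_card]; norm_num)
  Finite.of_surjective pi1 (QuotientGroup.mk'_surjective _)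

theorem center_cases {g : ↥Co0} : g ∈ Subgroup.center ↥Co0 ↔ g = 1 ∨ g = negOne := by
  simpa using (center_eq (g := g))

theorem pi1_eq {a b : ↥Co0} : pi1 a = pi1 b ↔ b = a ∨ b = a * negOne := by
  rw [show pi1 a = (a : Spor.Co1) from rfl, show pi1 b = (b : Spor.Co1) from rfl, QuotientGroup.eq, center_cases]
  refine or_congr ?_ ?_
  · rw [inv_mul_eq_one]; exact eq_comm
  · rw [inv_mul_eq_iff_eq_mul]

theorem negOne_CE : negOne ∈ CE := by
  have h : negOne ∈ Subgroup.center ↥Co0 := center_cases.2 (Or.inr rfl)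
  exact mem_CE.2 (Subgroup.mem_center_iff.1 h E0).symm

theorem negOne_ker : rho ⟨negOne, negOne_CE⟩ = 1 := rho_ker.2 fun x => by
  show crd (ap negOne (x : Vec)) = crd (x : Vec)
  rw [ap_negOne (LO_le x.2).1]
  exact crd_neg x.2

theorem off_check : (∀ i ∈ OO, vecOf offA i = 0 ∧ vecOf offB i = 0) ∧
    ((∀ i, (2 : ℤ) ∣ vecOf offA i - 0) ∧ (8 : ℤ) ∣ (∑ i, vecOf offA i) - 4 * 0 ∧
      inCode (maskOf (pat 0 (vecOf offA))) = true) ∧
    ((∀ i, (2 : ℤ) ∣ vecOf offB i - 0) ∧ (8 : ℤ) ∣ (∑ i, vecOf offB i) - 4 * 0 ∧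
      inCode (maskOf (pat 0 (vecOf offB))) = true) ∧ dotInt (vecOf offA) (vecOf offB) = 8 := by
  decide +kernel

/-- The map between the centralisers. -/
def psi : ↥CE →* ↥C1 := (pi1.comp CE.subtype).codRestrict C1 fun g => mem_C1.2 (by
  show pi1 (g : ↥Co0) * pi1 E0 = pi1 E0 * pi1 (g : ↥Co0)
  rw [← map_mul, ← map_mul, mem_CE.1 g.2])

theorem psi_val (g : ↥CE) : ((psi g : ↥C1) : Spor.Co1) = pi1 (g : ↥Co0) := rfl

theorem psi_surjective : Function.Surjective psi := by
  rintro ⟨x, hx⟩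
  obtain ⟨g, rfl⟩ := QuotientGroup.mk'_surjective (Subgroup.center ↥Co0) x
  have h : pi1 (g * E0) = pi1 (E0 * g) := by rw [map_mul, map_mul]; exact mem_C1.1 hx
  rcases pi1_eq.1 h with h | h
  · exact ⟨⟨g, mem_CE.2 h.symm⟩, rfl⟩
  · exfalso
    obtain ⟨h0, ⟨a1, a2, a3⟩, ⟨b1, b2, b3⟩, hd⟩ := off_check
    have hmove : ∀ v : Vec, v ∈ leechLattice → (∀ i ∈ OO, v i = 0) → ap g v ∈ LO := fun v hv hz => by
      rw [LO_iff (ap_mem g hv)]
      have hE : ap E0 v = v := funext fun i => by
        rw [E0, ap_signCo OO_inC hv]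
        by_cases hi : i ∈ OO <;> simp [hi, hz]
      rw [← ap_mul _ _ hv, h, ap_mul _ _ hv, ap_mul _ _ (ap_mem negOne hv), ap_negOne hv, ap_neg _ hv, hE,
        ap_neg _ hv]
    have hA : vecOf offA ∈ leechLattice := (mem_leech_iff _).2 ⟨0, a1, a2, mem_supports_iff_inCode.2 a3⟩
    have hB : vecOf offB ∈ leechLattice := (mem_leech_iff _).2 ⟨0, b1, b2, mem_supports_iff_inCode.2 b3⟩
    have h16 := dot16 (hmove _ hA fun i hi => (h0 i hi).1) (hmove _ hB fun i hi => (h0 i hi).2)
    rw [ap_dot g hA hB, hd] at h16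
    norm_num at h16

theorem psi_ker_card : Nat.card ↥psi.ker = 2 := by
  have e : psi.ker = (Subgroup.center ↥Co0).subgroupOf CE := by
    ext g
    rw [MonoidHom.mem_ker, Subgroup.mem_subgroupOf, Subtype.ext_iff]
    exact QuotientGroup.eq_one_iff (N := Subgroup.center ↥Co0) (g : ↥Co0)
  rw [e, Nat.card_congr (Subgroup.subgroupOfEquivOfLe (fun g hg => by
    rcases center_cases.1 hg with rfl | rfl
    exacts [CE.one_mem, negOne_CE])).toEquiv, card_centre2]

theorem card_C1 : Nat.card ↥C1 = 89181388800 := by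
  have h := psi.ker.card_mul_index
  rw [Subgroup.index_ker, psi_ker_card, card_CE, MonoidHom.range_eq_top.2 psi_surjective, Subgroup.card_top] at h
  omega

theorem psi_ker_le : psi.ker ≤ phi.ker := fun g hg => by
  rw [MonoidHom.mem_ker, Subtype.ext_iff] at hg
  rcases center_cases.1 ((QuotientGroup.eq_one_iff (g : ↥Co0)).1 hg) with h | h
  · rw [show g = 1 from Subtype.ext h]; exact one_mem _
  · rw [show g = ⟨negOne, negOne_CE⟩ from Subtype.ext h, phi_ker]; exact negOne_ker

/-- The map onto the derived orthogonal group. -/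
def chi : ↥C1 →* ↥(Omega (ZMod 2) (quadFormPlus 4 (ZMod 2))) :=
  MonoidHom.liftOfSurjective psi psi_surjective ⟨phi, psi_ker_le⟩

theorem chi_psi (g : ↥CE) : chi (psi g) = phi g :=
  MonoidHom.liftOfRightInverse_comp_apply psi _ _ ⟨phi, psi_ker_le⟩ g

theorem chi_surjective : Function.Surjective chi := fun y => by
  obtain ⟨g, rfl⟩ := phi_surjective y
  exact ⟨psi g, chi_psi g⟩

/-- The image of a kernel element. -/
def qel (q : Fin 16 × Fin 64) : ↥C1 := psi ⟨kel q, kel_mem q⟩

theorem mem_Q {x : ↥C1} : x ∈ chi.ker ↔ ∃ q, x = qel q := by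
  constructor
  · intro h
    obtain ⟨g, rfl⟩ := psi_surjective x
    rw [MonoidHom.mem_ker, chi_psi, ← MonoidHom.mem_ker, phi_ker] at h
    obtain ⟨q, hq⟩ := ker_exists g h
    exact ⟨q, congrArg psi (Subtype.ext hq)⟩
  · rintro ⟨q, rfl⟩
    rw [MonoidHom.mem_ker, qel, chi_psi, ← MonoidHom.mem_ker, phi_ker]
    exact kel_ker q

theorem card_Q : Nat.card ↥chi.ker = 512 := by
  have h := chi.ker.card_mul_index
  rw [Subgroup.index_ker, MonoidHom.range_eq_top.2 chi_surjective, Subgroup.card_top, card_omega, card_C1] at h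
  exact Nat.eq_of_mul_eq_mul_right (show 0 < 174182400 by norm_num) (h.trans (by norm_num))

/-- Membership of an image in a sign set. -/
def bS (s : Fin 64) (x : GolayPt) : Bool := (sN s).testBit (idx x).val

theorem bS_iff {s : Fin 64} {x : GolayPt} : x ∈ sS s ↔ bS s x = true := Golay24.mem_setOf

theorem ap_kel' (q : Fin 16 × Fin 64) {x : Vec} (hx : x ∈ leechLattice) (j : GolayPt) :
    ap (kel q) x (sig q.1 j) = if bS q.2 j = true then -x j else x j := by
  rw [kel, ap_mul _ _ hx, ap_permCo _ (ap_mem _ hx), Equiv.symm_apply_apply, ap_signCo _ hx]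
  simp only [bS_iff]

theorem diff_check : ∀ i s, (∀ x, (bS s (appPt (pN i) x) ^^ bS s x) = false) ∨
    ∀ x, (bS s (appPt (pN i) x) ^^ bS s x) = decide (x ∉ OO) := by
  decide +kernel

theorem perm_check : (∀ i j x, appPt (pN i) (appPt (pN j) x) = appPt (pN j) (appPt (pN i) x)) ∧
    ∀ i x, appPt (pN i) (appPt (pN i) x) = x := by
  decide +kernel

theorem diff_cases (i : Fin 16) (s : Fin 64) :
    ∃ b : Bool, ∀ x, (bS s (sig i x) ^^ bS s x) = (b && decide (x ∉ OO)) := by
  rcases diff_check i s with h | h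
  · exact ⟨false, fun x => by rw [sig_apply, h x, Bool.false_and]⟩
  · exact ⟨true, fun x => by rw [sig_apply, h x, Bool.true_and]⟩

theorem out_inC : Leech.InC (Golay24.setOf outM) := mem_supports_iff_inCode.2 (by decide +kernel)

theorem out_eq : ∀ x, x ∈ Golay24.setOf outM ↔ x ∉ OO := by decide +kernel

/-- The sign change off the octad. -/
def Ec : ↥Co0 := signCo (Golay24.setOf outM) out_inC

theorem ap_Ec {x : Vec} (hx : x ∈ leechLattice) (j : GolayPt) :
    ap Ec x j = if j ∈ OO then x j else -x j := by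
  rw [Ec, ap_signCo out_inC hx]
  by_cases h : j ∈ OO <;> simp [-Golay24.mem_setOf, out_eq, h]

theorem Ec_eq : Ec = E0 * negOne := ext_ap fun x hx => funext fun j => by
  rw [ap_Ec hx, ap_mul _ _ hx, ap_negOne hx, E0, ap_signCo OO_inC (neg_mem hx)]
  by_cases h : j ∈ OO <;> simp [h]

theorem pi1_negOne : pi1 negOne = 1 := (QuotientGroup.eq_one_iff negOne).2 (center_cases.2 (Or.inr rfl))

theorem pi1_Ec : pi1 Ec = zz := by rw [Ec_eq, map_mul, pi1_negOne, mul_one]; rfl

/-- The involution in its centraliser. -/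
def zC : ↥C1 := ⟨zz, mem_C1.2 rfl⟩

theorem kel_comm (q r : Fin 16 × Fin 64) (b : Bool)
    (hb : ∀ j, ((bS q.2 (sig r.1 j) ^^ bS q.2 j) ^^ (bS r.2 (sig q.1 j) ^^ bS r.2 j)) =
      (b && decide (j ∉ OO))) :
    kel q * kel r = kel r * kel q * if b then Ec else 1 := by
  refine ext_ap fun x hx => funext fun i => ?_
  obtain ⟨j, rfl⟩ : ∃ j, sig q.1 (sig r.1 j) = i := by
    obtain ⟨y, hy⟩ := (sig q.1).surjective i
    obtain ⟨w, hw⟩ := (sig r.1).surjective y
    exact ⟨w, by rw [hw, hy]⟩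
  have hc : sig q.1 (sig r.1 j) = sig r.1 (sig q.1 j) := by
    simp only [sig_apply, perm_check.1 q.1 r.1 j]
  rw [ap_mul _ _ hx, ap_kel' q (ap_mem _ hx), ap_kel' r hx, ap_mul _ _ hx,
    ap_mul _ _ (ap_mem _ hx), hc, ap_kel' r (ap_mem _ (ap_mem _ hx)), ap_kel' q (ap_mem _ hx)]
  have := hb j
  cases b
  · simp only [Bool.false_eq_true, if_false, ap_one]
    revert this
    cases bS q.2 (sig r.1 j) <;> cases bS q.2 j <;> cases bS r.2 (sig q.1 j) <;> cases bS r.2 j <;> simp
  · simp only [if_true, ap_Ec hx]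
    revert this
    by_cases hj : j ∈ OO <;> cases bS q.2 (sig r.1 j) <;> cases bS q.2 j <;> cases bS r.2 (sig q.1 j) <;>
      cases bS r.2 j <;> simp [hj]

theorem kel_sq (q : Fin 16 × Fin 64) : kel q * kel q = 1 ∨ kel q * kel q = Ec := by
  obtain ⟨b, hb⟩ := diff_cases q.1 q.2
  have key : ∀ x ∈ leechLattice, ∀ j, ap (kel q * kel q) x j =
      if (b && decide (j ∉ OO)) = true then -x j else x j := by
    intro x hx j
    obtain ⟨y, rfl⟩ : ∃ y, sig q.1 (sig q.1 y) = j := by
      obtain ⟨y, hy⟩ := (sig q.1).surjective j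
      obtain ⟨w, hw⟩ := (sig q.1).surjective y
      exact ⟨w, by rw [hw, hy]⟩
    have hy : sig q.1 (sig q.1 y) = y := by simp only [sig_apply, perm_check.2]
    rw [ap_mul _ _ hx, ap_kel' q (ap_mem _ hx), ap_kel' q hx]
    rw [hy]
    have := hb y
    revert this
    cases bS q.2 (sig q.1 y) <;> cases bS q.2 y <;> cases (b && decide (y ∉ OO)) <;> simp
  cases b
  · refine Or.inl (ext_ap fun x hx => funext fun j => ?_)
    rw [key x hx j, ap_one]; simp
  · refine Or.inr (ext_ap fun x hx => funext fun j => ?_)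
    rw [key x hx j, ap_Ec hx]
    by_cases hj : j ∈ OO <;> simp [hj]

theorem zC_comm (a : ↥C1) : Commute a zC := Subtype.ext (mem_C1.1 a.2)

theorem comm_cases (q r : Fin 16 × Fin 64) (b : Bool)
    (hb : ∀ j, ((bS q.2 (sig r.1 j) ^^ bS q.2 j) ^^ (bS r.2 (sig q.1 j) ^^ bS r.2 j)) =
      (b && decide (j ∉ OO))) :
    ⁅qel q, qel r⁆ = if b then zC else 1 := by
  have h : qel q * qel r = qel r * qel q * if b then zC else 1 := by
    apply Subtype.ext
    have := congrArg pi1 (kel_comm q r b hb)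
    rw [map_mul, map_mul, map_mul] at this
    cases b
    · rw [if_neg (by simp), map_one] at this
      rw [if_neg (by simp)]
      exact this
    · rw [if_pos rfl, pi1_Ec] at this
      rw [if_pos rfl]
      exact this
  rw [commutatorElement_def, h]
  cases b
  · simp [mul_assoc]
  · rw [if_pos rfl, mul_assoc (qel r * qel q), ((zC_comm (qel q)⁻¹).eq).symm]
    simp only [← mul_assoc, mul_inv_cancel_right]
    rw [mul_assoc, ((zC_comm (qel r)⁻¹).eq).symm, ← mul_assoc, mul_inv_cancel, one_mul]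

theorem qel_comm (q r : Fin 16 × Fin 64) : ⁅qel q, qel r⁆ = 1 ∨ ⁅qel q, qel r⁆ = zC := by
  obtain ⟨b1, h1⟩ := diff_cases r.1 q.2
  obtain ⟨b2, h2⟩ := diff_cases q.1 r.2
  rw [comm_cases q r (b1 ^^ b2) fun j => by rw [h1 j, h2 j]; cases b1 <;> cases b2 <;> simp]
  cases b1 <;> cases b2 <;> simp

theorem small_index : sN 0 = 0 ∧ ∀ x, appPt (pN 0) x = x := by decide +kernel

/-- A point off the octad. -/
def offPt : GolayPt := octP 7

theorem pair_check : ∃ x, x ∉ OO ∧ ∀ i s, (i = 0 ∧ (sN s = 0 ∨ sN s = octM ∨ sN s = outM ∨ sN s = 16777215)) ∨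
    (∃ j, (bS s (appPt (pN j) x) ^^ bS s x) = true) ∨ ∃ t, (bS t (appPt (pN i) x) ^^ bS t x) = true := by
  decide +kernel

theorem sig_zero (x : GolayPt) : sig 0 x = x := by rw [sig_apply, small_index.2]

theorem bS_zero (x : GolayPt) : bS 0 x = false := by rw [bS, small_index.1, Nat.zero_testBit]

theorem full_bits : ∀ x : GolayPt, Nat.testBit 16777215 (idx x).val = true ∧
    Nat.testBit octM (idx x).val = decide (x ∈ OO) ∧ Nat.testBit outM (idx x).val = decide (x ∉ OO) := by
  decide +kernel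

theorem qel_pair (q : Fin 16 × Fin 64) (h1 : qel q ≠ 1) (h2 : qel q ≠ zC) :
    ∃ r, ⁅qel q, qel r⁆ = zC := by
  obtain ⟨x, hx, hall⟩ := pair_check
  rcases hall q.1 q.2 with ⟨hi, hs⟩ | ⟨j, hj⟩ | ⟨t, ht⟩
  · exfalso
    have hk : ∀ v ∈ leechLattice, ∀ k, ap (kel q) v k = if bS q.2 k = true then -v k else v k := fun v hv k => by
      have := ap_kel' q hv k
      rwa [hi, sig_zero] at this
    have key : kel q = 1 ∨ kel q = E0 ∨ kel q = Ec ∨ kel q = negOne := by
      rcases hs with e | e | e | e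
      · exact Or.inl (ext_ap fun v hv => funext fun k => by
          rw [hk v hv, bS, e, Nat.zero_testBit, ap_one]; simp)
      · refine Or.inr (Or.inl (ext_ap fun v hv => funext fun k => ?_))
        rw [hk v hv, bS, e, (full_bits k).2.1, E0, ap_signCo OO_inC hv]; simp
      · refine Or.inr (Or.inr (Or.inl (ext_ap fun v hv => funext fun k => ?_)))
        rw [hk v hv, bS, e, (full_bits k).2.2, ap_Ec hv]
        by_cases hkO : k ∈ OO <;> simp [hkO]
      · refine Or.inr (Or.inr (Or.inr (ext_ap fun v hv => funext fun k => ?_)))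
        rw [hk v hv, bS, e, (full_bits k).1, ap_negOne hv]; simp
    have hv : ((qel q : ↥C1) : Spor.Co1) = pi1 (kel q) := rfl
    rcases key with e | e | e | e <;> rw [e] at hv
    · exact h1 (Subtype.ext (hv.trans (map_one _)))
    · exact h2 (Subtype.ext hv)
    · exact h2 (Subtype.ext (hv.trans pi1_Ec))
    · exact h1 (Subtype.ext (hv.trans pi1_negOne))
  · refine ⟨(j, 0), ?_⟩
    obtain ⟨b, hb⟩ := diff_cases j q.2
    have hb1 : b = true := by
      have := hb x
      rw [sig_apply, hj] at this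
      cases b
      · simp at this
      · rfl
    rw [comm_cases q (j, 0) b fun k => by rw [hb k]; simp [bS_zero], if_pos hb1]
  · refine ⟨(0, t), ?_⟩
    obtain ⟨b, hb⟩ := diff_cases q.1 t
    have hb1 : b = true := by
      have := hb x
      rw [sig_apply, ht] at this
      cases b
      · simp at this
      · rfl
    rw [comm_cases q (0, t) b fun k => by rw [hb k]; simp [sig_zero], if_pos hb1]

theorem zz_ne_one : zz ≠ 1 := fun h => by
  rcases center_cases.1 ((QuotientGroup.eq_one_iff E0).1 h) with e | e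
  all_goals
    have h1 := congrArg (fun g => ap g (e8 none) none) e
    have h2 := congrArg (fun g => ap g (e8 (some 1)) (some 1)) e
    simp only [E0, ap_signCo OO_inC (e8_mem _), ap_one, ap_negOne (e8_mem _), none_mem, if_true, e8,
      Pi.neg_apply] at h1
    simp only [E0, ap_signCo OO_inC (e8_mem _), ap_one, ap_negOne (e8_mem _), e8, Pi.neg_apply] at h2
    revert h1 h2
    decide +kernel

theorem zC_mem : zC ∈ chi.ker := by
  have hE : E0 ∈ CE := mem_CE.2 rfl
  have hk : rho ⟨E0, hE⟩ = 1 := rho_ker.2 fun x => by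
    show crd (ap E0 (x : Vec)) = crd (x : Vec)
    rw [(LO_iff (LO_le x.2).1).1 x.2]
    exact crd_neg x.2
  rw [show zC = psi ⟨E0, hE⟩ from rfl, MonoidHom.mem_ker, chi_psi, ← MonoidHom.mem_ker, phi_ker]
  exact hk

theorem move_check : ∃ x, appPt permA (appPt (pN ⟨witH % 16, Nat.mod_lt _ (by norm_num)⟩) x) ≠
    appPt (pN ⟨witH % 16, Nat.mod_lt _ (by norm_num)⟩) (appPt permA x) := by
  decide +kernel

theorem central_cases : ∀ c : ↥Co0, c = 1 ∨ c = negOne ∨ c = Ec ∨ c = E0 → ∀ j,
    ap c (e8 j) = e8 j ∨ ap c (e8 j) = -e8 j := by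
  intro c hc j
  have hs : ∀ (S : Finset GolayPt) (hS : Leech.InC S), ap (signCo S hS) (e8 j) = e8 j ∨
      ap (signCo S hS) (e8 j) = -e8 j := fun S hS => by
    by_cases hj : j ∈ S
    · refine Or.inr (funext fun k => ?_)
      rw [ap_signCo hS (e8_mem j)]
      by_cases hk : k = j
      · subst hk; simp [hj]
      · simp [e8, hk]
    · refine Or.inl (funext fun k => ?_)
      rw [ap_signCo hS (e8_mem j)]
      by_cases hk : k = j
      · subst hk; simp [hj]
      · simp [e8, hk]
  rcases hc with rfl | rfl | rfl | rfl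
  · exact Or.inl (ap_one _)
  · exact Or.inr (ap_negOne (e8_mem j))
  · exact hs _ out_inC
  · exact hs _ OO_inC

theorem cent_le : Subgroup.centralizer (chi.ker : Set ↥C1) ≤ chi.ker := by
  haveI := omega_simple
  set N : Subgroup ↥C1 := Subgroup.centralizer (chi.ker : Set ↥C1)
  have hN : N.Normal := ⟨fun a ha c => Subgroup.mem_centralizer_iff.2 fun b hb => by
    have hb' : c⁻¹ * b * c ∈ chi.ker := by
      simpa using (MonoidHom.normal_ker chi).conj_mem b hb c⁻¹
    have h := Subgroup.mem_centralizer_iff.1 ha _ hb'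
    calc b * (c * a * c⁻¹) = c * ((c⁻¹ * b * c) * a) * c⁻¹ := by group
      _ = c * (a * (c⁻¹ * b * c)) * c⁻¹ := by rw [h]
      _ = c * a * c⁻¹ * b := by group⟩
  rcases (hN.map chi chi_surjective).eq_bot_or_eq_top with h | h
  · intro a ha
    exact MonoidHom.mem_ker.2 (Subgroup.mem_bot.1 (h ▸ Subgroup.mem_map_of_mem chi ha))
  · exfalso
    obtain ⟨x, hx⟩ := move_check
    set w : Fin 16 := ⟨witH % 16, Nat.mod_lt _ (by norm_num)⟩
    set hA : ↥C1 := psi ⟨gEl 0, gEl_mem 0⟩
    obtain ⟨c, hc, hce⟩ : ∃ c ∈ N, chi c = chi hA :=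
      Subgroup.mem_map.1 (h ▸ Subgroup.mem_top (chi hA))
    obtain ⟨r, hr⟩ := mem_Q.1 (show hA * c⁻¹ ∈ chi.ker by
      rw [MonoidHom.mem_ker, map_mul, map_inv, hce, mul_inv_cancel])
    have hk := Subgroup.mem_centralizer_iff.1 hc (qel (w, 0)) (mem_Q.2 ⟨_, rfl⟩)
    have e : hA = qel r * c := by rw [← hr, inv_mul_cancel_right]
    have hrel : hA * qel (w, 0) = qel (w, 0) * hA ∨ hA * qel (w, 0) = qel (w, 0) * hA * zC := by
      rcases qel_comm r (w, 0) with e' | e'
      · left
        rw [commutatorElement_eq_one_iff_mul_comm] at e'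
        rw [e, mul_assoc, ← hk, ← mul_assoc, e', mul_assoc]
      · right
        rw [commutatorElement_def, mul_inv_eq_iff_eq_mul, mul_inv_eq_iff_eq_mul] at e'
        rw [e, mul_assoc, ← hk, ← mul_assoc, e', (zC_comm (qel (w, 0) * (qel r * c))).eq]
        simp only [mul_assoc]
    have hco : ∃ d : ↥Co0, (d = 1 ∨ d = negOne ∨ d = Ec ∨ d = E0) ∧
        gEl 0 * kel (w, 0) = kel (w, 0) * gEl 0 * d := by
      rcases hrel with hr' | hr'
      · have hp : pi1 (kel (w, 0) * gEl 0) = pi1 (gEl 0 * kel (w, 0)) := by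
          rw [map_mul, map_mul]; exact (congrArg Subtype.val hr').symm
        rcases pi1_eq.1 hp with e' | e'
        · exact ⟨1, Or.inl rfl, by rw [mul_one]; exact e'⟩
        · exact ⟨negOne, Or.inr (Or.inl rfl), e'⟩
      · have hp : pi1 (kel (w, 0) * gEl 0 * E0) = pi1 (gEl 0 * kel (w, 0)) := by
          rw [map_mul, map_mul, map_mul]; exact (congrArg Subtype.val hr').symm
        rcases pi1_eq.1 hp with e' | e'
        · exact ⟨E0, Or.inr (Or.inr (Or.inr rfl)), e'⟩
        · exact ⟨Ec, Or.inr (Or.inr (Or.inl rfl)), by rw [e', Ec_eq, mul_assoc]⟩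
    obtain ⟨d, hd, heq⟩ := hco
    have hA' : gEl 0 = permCo (toPerm permA) (toPerm_mem_M24 perms_ok.1) := rfl
    have hkw : ∀ y, ap (kel (w, 0)) (e8 y) = e8 (sig w y) := fun y => by
      have h0 : signCo (sS 0) (sS_inC 0) = 1 := ext_ap fun v hv => funext fun k => by
        rw [ap_signCo _ hv, if_neg (fun hk' => by rw [bS_iff, bS_zero] at hk'; exact Bool.false_ne_true hk'),
          ap_one]
      rw [kel, h0, mul_one, perm_e8]
    have hl := congrArg (fun g => ap g (e8 x)) heq
    beta_reduce at hl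
    rw [ap_mul _ _ (e8_mem x), hkw, hA', perm_e8, ap_mul _ _ (e8_mem x)] at hl
    have hval : toPerm permA (sig w x) ≠ sig w (toPerm permA x) := by
      rw [toPerm_apply (valid_of_inM24 perms_ok.1), toPerm_apply (valid_of_inM24 perms_ok.1), sig_apply, sig_apply]
      exact hx
    rcases central_cases d hd x with hd' | hd' <;> rw [hd'] at hl
    · rw [ap_mul _ _ (e8_mem x), perm_e8, hkw] at hl
      have := congrFun hl (toPerm permA (sig w x))
      simp [e8, hval] at this
    · rw [ap_mul _ _ (neg_mem (e8_mem x)), ap_neg _ (e8_mem x), perm_e8, ap_neg _ (e8_mem _), hkw] at hl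
      have := congrFun hl (toPerm permA (sig w x))
      simp [e8, hval] at this

theorem zz_sq : zz * zz = 1 := by
  rw [show zz = pi1 E0 from rfl, ← map_mul, show E0 * E0 = 1 from ext_ap fun x hx => funext fun j => by
    rw [ap_mul _ _ hx, E0, ap_signCo OO_inC (ap_mem _ hx), ap_signCo OO_inC hx, ap_one]
    by_cases h : j ∈ OO <;> simp [h], map_one]

theorem ord_zz : orderOf zz = 2 :=
  orderOf_eq_prime (by rw [pow_two, zz_sq]) zz_ne_one

theorem exData : BigExtra.ExData chi.ker zC where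
  ord := (Subgroup.orderOf_coe zC).symm.trans ord_zz
  mem := zC_mem
  le_cent a _ := zC_comm a
  normal c _ a ha := (MonoidHom.normal_ker chi).conj_mem a ha c
  sq a ha := by
    obtain ⟨q, rfl⟩ := mem_Q.1 ha
    rcases kel_sq q with e | e
    · exact Or.inl (Subtype.ext (((map_mul pi1 _ _).symm.trans (congrArg pi1 e)).trans (map_one _)))
    · exact Or.inr (Subtype.ext (((map_mul pi1 _ _).symm.trans (congrArg pi1 e)).trans pi1_Ec))
  comm a ha b hb := by
    obtain ⟨q, rfl⟩ := mem_Q.1 ha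
    obtain ⟨r, rfl⟩ := mem_Q.1 hb
    exact qel_comm q r
  pair a ha h1 h2 := by
    obtain ⟨q, rfl⟩ := mem_Q.1 ha
    obtain ⟨r, hr⟩ := qel_pair q h1 h2
    exact ⟨qel r, mem_Q.2 ⟨r, rfl⟩, hr⟩
  self_centralizing a ha := by
    have haQ : a ∈ chi.ker := cent_le (Subgroup.mem_centralizer_iff.2 fun b hb => (ha b hb).eq.symm)
    obtain ⟨q, rfl⟩ := mem_Q.1 haQ
    by_contra hne
    push Not at hne
    obtain ⟨r, hr⟩ := qel_pair q hne.1 hne.2
    rw [commutatorElement_eq_one_iff_mul_comm.2 (ha _ (mem_Q.2 ⟨r, rfl⟩)).eq] at hr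
    exact zz_ne_one (congrArg Subtype.val hr).symm

theorem pi_ok : inM24 permPi = true ∧ maskOf ((OO).image fun x => appPt permPi x) = octD ∧
    inCode octD = true ∧ octD < 2 ^ 24 ∧ (∀ x ∈ OO, x ∉ Golay24.setOf octD) := by
  decide +kernel

theorem main : ∃ z : Spor.Co1, orderOf z = 2 ∧ ∃ (Q : Subgroup (Subgroup.centralizer ({z} : Set Spor.Co1)))
    (_ : Q.Normal), generalizedFittingSubgroup (Subgroup.centralizer ({z} : Set Spor.Co1)) = Q ∧
      IsExtraspecial 2 Q ∧ Nat.card Q = 2 ^ 9 ∧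
      Nonempty ((Subgroup.centralizer ({z} : Set Spor.Co1)) ⧸ Q ≃* Omega (ZMod 2) (quadFormPlus 4 (ZMod 2))) ∧
      ∃ g : Spor.Co1, (∃ hq : g * z * g⁻¹ ∈ Subgroup.centralizer ({z} : Set Spor.Co1),
        (⟨g * z * g⁻¹, hq⟩ : Subgroup.centralizer ({z} : Set Spor.Co1)) ∈ Q) ∧ g * z * g⁻¹ ≠ z := by
  haveI := co1_finite
  haveI := omega_simple
  haveI : Fact (Nat.Prime 2) := ⟨Nat.prime_two⟩
  refine ⟨zz, ord_zz, chi.ker, MonoidHom.normal_ker chi, ?_, ?_, card_Q,
    ⟨QuotientGroup.quotientKerEquivOfSurjective chi chi_surjective⟩, ?_⟩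
  · have hle : chi.ker ≤ pCore 2 ↥C1 :=
      Components.le_pCore (MonoidHom.normal_ker chi) (IsPGroup.of_card (n := 9) (by rw [card_Q]; norm_num))
    have hge : pCore 2 ↥C1 ≤ chi.ker := by
      have hn : (pCore 2 ↥C1).Normal := inferInstance
      rcases (hn.map chi chi_surjective).eq_bot_or_eq_top with h | h
      · intro a ha
        exact MonoidHom.mem_ker.2 (Subgroup.mem_bot.1 (h ▸ Subgroup.mem_map_of_mem chi ha))
      · exfalso
        have hp : IsPGroup 2 ↥((pCore 2 ↥C1).map chi) :=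
          (Components.sSup_isPGroup_of_normal (p := 2) (G := ↥C1)).map chi
        obtain ⟨k, hk⟩ := hp.exists_card_eq
        rw [h, Subgroup.card_top, card_omega] at hk
        have h3 : 3 ∣ 2 ^ k := hk ▸ (by norm_num)
        exact absurd (Nat.prime_three.dvd_of_dvd_pow h3) (by norm_num)
    have e := le_antisymm hge hle
    rw [Components.fStar_eq_pCore_iff.2 (by rw [e]; exact cent_le), e]
  · exact exData.isExtraspecial (by rw [card_Q]; norm_num)
  · obtain ⟨hM, himg, hcode, hlt, hdis⟩ := pi_ok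
    set σ := toPerm permPi
    have hσ : σ ∈ M24 := toPerm_mem_M24 hM
    have himg' : OO.image σ = Golay24.setOf octD := by
      rw [← himg, setOf_maskOf]
      exact Finset.image_congr fun x _ => toPerm_apply (valid_of_inM24 hM) x
    have hD : Leech.InC (Golay24.setOf octD) := mem_supports_iff_inCode.2 (by rw [maskOf_setOf hlt]; exact hcode)
    have hconj : permCo σ hσ * E0 * (permCo σ hσ)⁻¹ = signCo (Golay24.setOf octD) hD := by
      rw [mul_inv_eq_iff_eq_mul, E0, perm_sign_conj' hσ OO_inC]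
      simp only [himg']
    have hC : signCo (Golay24.setOf octD) hD ∈ CE := mem_CE.2 (ext_ap fun x hx => funext fun j => by
      rw [ap_mul _ _ hx, ap_mul _ _ hx, ap_signCo hD (ap_mem _ hx), E0, ap_signCo OO_inC hx,
        ap_signCo OO_inC (ap_mem _ hx), ap_signCo hD hx]
      by_cases h1 : j ∈ OO <;> simp [h1, hdis j])
    have hk : rho ⟨_, hC⟩ = 1 := rho_ker.2 fun x => by
      show crd (ap (signCo (Golay24.setOf octD) hD) (x : Vec)) = crd (x : Vec)
      congr 1
      funext j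
      rw [ap_signCo hD (LO_le x.2).1]
      by_cases h1 : j ∈ OO
      · rw [if_neg (hdis j h1)]
      · simp [(LO_le x.2).2 j h1]
    refine ⟨pi1 (permCo σ hσ), ⟨?_, ?_⟩, ?_⟩
    · rw [zz, ← map_inv, ← map_mul, ← map_mul, hconj]
      exact (psi ⟨_, hC⟩).2
    · rw [MonoidHom.mem_ker]
      have e : ∀ (h : pi1 (permCo σ hσ) * zz * (pi1 (permCo σ hσ))⁻¹ ∈ C1),
          (⟨_, h⟩ : ↥C1) = psi ⟨_, hC⟩ := fun h => Subtype.ext (by
        show _ = pi1 (signCo (Golay24.setOf octD) hD)
        rw [← hconj, map_mul, map_mul, map_inv]; rfl)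
      rw [e, chi_psi, ← MonoidHom.mem_ker, phi_ker]
      exact hk
    · rw [zz, ← map_inv, ← map_mul, ← map_mul, hconj]
      intro h
      rcases pi1_eq.1 h with e | e
      · have h1 := congrArg (fun g => ap g (e8 none) none) e
        simp [-Golay24.mem_setOf, E0, ap_signCo, e8_mem, none_mem, hdis none none_mem, e8] at h1
      · obtain ⟨y, hy1, hy2⟩ : ∃ y, y ∉ OO ∧ y ∉ Golay24.setOf octD := by decide +kernel
        have h1 := congrArg (fun g => ap g (e8 y) y) e
        simp [-Golay24.mem_setOf, E0, ap_mul, ap_negOne, ap_signCo, e8_mem, hy1, hy2, e8] at h1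

end

end Cfsg.Agent.LeechCount.OctCent
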