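import Cfsg.Agent.Lib.LeechCount.OctCent.Lattice
import Cfsg.Agent.Lib.LeechCount.Co3Out.Word
import Cfsg.Agent.Lib.Golay.OctadStab
import Cfsg.Agent.Lib.LeechCount.Order

/-!
The centraliser of the sign change on the octad acts on the 135 singular points modulo two; it has
order 178362777600.
-/

set_option autoImplicit false

namespace Cfsg.Agent.LeechCount.OctCent

open Cfsg Cfsg.Agent.Leech Cfsg.Agent.Golay24 Cfsg.Agent.LeechCount MulAction Matrix
open Cfsg.Agent.LeechCount.Co3Out (pL pL_vecOf sgnL xiL xi_vecOf ap_perm_inv)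
open Cfsg.Agent.LeechCount.Co3Rank (sxOk sxOfList)
open scoped Pointwise

noncomputable section

attribute [local irreducible] normFS dotFS

theorem OO_inC : Leech.InC OO := mem_supports_iff_inCode.2 (by decide +kernel)

theorem OO_card : OO.card = 8 := by decide +kernel

theorem OO_octad : OO ∈ octads := ⟨OO_inC, OO_card⟩

/-- The sign change on the octad. -/
def E0 : ↥Co0 := signCo OO OO_inC

/-- Its centraliser. -/
def CE : Subgroup ↥Co0 := Subgroup.centralizer ({E0} : Set ↥Co0)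

theorem mem_CE {g : ↥Co0} : g ∈ CE ↔ g * E0 = E0 * g := by
  rw [CE, Subgroup.mem_centralizer_iff]
  simp only [Set.mem_singleton_iff, forall_eq]
  exact eq_comm

theorem LO_iff {x : Vec} (hx : x ∈ leechLattice) : x ∈ LO ↔ ap E0 x = -x := by
  constructor
  · intro h
    funext i
    rw [E0, ap_signCo OO_inC hx]
    by_cases hi : i ∈ OO
    · simp [hi]
    · simp [hi, (LO_le h).2 i hi]
  · intro h
    refine mem_LO hx fun i hi => ?_
    have := congrFun h i
    rw [E0, ap_signCo OO_inC hx, if_neg hi, Pi.neg_apply] at this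
    omega

theorem ap_LO {g : ↥Co0} (hg : g ∈ CE) {x : Vec} (hx : x ∈ LO) : ap g x ∈ LO := by
  have hl := (LO_le hx).1
  rw [LO_iff (ap_mem g hl), ← ap_mul _ _ hl, ← mem_CE.1 hg, ap_mul _ _ hl, (LO_iff hl).1 hx, ap_neg g hl]

/-- The action on the sublattice. -/
def act (g : ↥CE) : ↥LO →+ ↥LO :=
  AddMonoidHom.mk' (fun x => ⟨ap (g : ↥Co0) (x : Vec), ap_LO g.2 x.2⟩) fun x y =>
    Subtype.ext (ap_add _ (LO_le x.2).1 (LO_le y.2).1)

theorem act_mul (g h : ↥CE) (x : ↥LO) : act (g * h) x = act g (act h x) :=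
  Subtype.ext (ap_mul (g : ↥Co0) (h : ↥Co0) (LO_le x.2).1)

theorem act_one (x : ↥LO) : act 1 x = x := Subtype.ext (ap_one (x : Vec))

/-- The matrix modulo two. -/
def M (g : ↥CE) : Matrix Ix Ix (ZMod 2) := Matrix.of fun j k => cHom (act g (BV k)) j

theorem M_mulVec (g : ↥CE) (x : ↥LO) : M g *ᵥ cHom x = cHom (act g x) := by
  obtain ⟨c, w, rfl⟩ := decomp x
  rw [cHom_basis, map_add (act g), map_zsmul (act g), map_add, cHom_two, add_zero, map_sum, map_sum]
  funext j
  simp only [Matrix.mulVec, dotProduct, M, Matrix.of_apply, Finset.sum_apply, map_zsmul, Pi.smul_apply,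
    zsmul_eq_mul, Pi.mul_apply, Pi.intCast_apply, mul_comm]

theorem M_mul (g h : ↥CE) : M (g * h) = M g * M h := by
  ext j k
  have e : cHom (act (g * h) (BV k)) = M g *ᵥ cHom (act h (BV k)) := by rw [M_mulVec, act_mul]
  show cHom (act (g * h) (BV k)) j = _
  rw [e]
  rfl

theorem M_one : M 1 = 1 := by
  ext j k
  show cHom (act 1 (BV k)) j = _
  rw [act_one, cHom_apply, BV, crd_basis, Matrix.one_apply]
  exact if_congr eq_comm rfl rfl

/-- The matrices as a homomorphism. -/
def MM : ↥CE →* Matrix Ix Ix (ZMod 2) where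
  toFun := M
  map_one' := M_one
  map_mul' := M_mul

/-- The map to the orthogonal group. -/
def rho : ↥CE →* ↥(isometryGroup (ZMod 2) (quadFormPlus 4 (ZMod 2))) :=
  MM.toHomUnits.codRestrict _ fun g u _ => by
    show quadFormPlus 4 (ZMod 2) (M g *ᵥ u) = quadFormPlus 4 (ZMod 2) u
    obtain ⟨x, rfl⟩ := cHom_surj u
    rw [M_mulVec, cHom_apply, cHom_apply, ← (q_eq (act g x).2).2, ← (q_eq x.2).2, qn, qn]
    show ((sqNorm (ap (g : ↥Co0) (x : Vec)) / 32 : ℤ) : ZMod 2) = _
    rw [ap_norm _ (LO_le x.2).1]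

theorem rho_ker {g : ↥CE} : rho g = 1 ↔ ∀ x : ↥LO, cHom (act g x) = cHom x := by
  constructor
  · intro h x
    have hM : M g = 1 := congrArg (fun a => ((a : Matrix.GeneralLinearGroup Ix (ZMod 2)) : Matrix Ix Ix (ZMod 2)))
      (congrArg Subtype.val h)
    rw [← M_mulVec, hM, Matrix.one_mulVec]
  · intro h
    refine Subtype.ext (Units.ext ?_)
    show M g = 1
    rw [← M_one]
    ext j k
    show cHom (act g (BV k)) j = cHom (act 1 (BV k)) j
    rw [h, act_one]

instance ceAction : MulAction ↥CE (Ix → ZMod 2) where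
  smul g v := M g *ᵥ v
  one_smul v := by show M 1 *ᵥ v = v; rw [M_one, Matrix.one_mulVec]
  mul_smul g h v := by show M (g * h) *ᵥ v = M g *ᵥ (M h *ᵥ v); rw [M_mul, Matrix.mulVec_mulVec]

theorem e8_off : ∀ i ∈ OO, ∀ j, j ∉ OO → e8 i j = 0 := by decide +kernel

theorem e8_LO {i : GolayPt} (hi : i ∈ OO) : e8 i ∈ LO := mem_LO (e8_mem i) (e8_off i hi)

theorem none_mem : (none : GolayPt) ∈ OO := by decide +kernel

/-- The cross of the octad point. -/
def x0 : Ix → ZMod 2 := crd (e8 none)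

theorem x0_facts : quadFormPlus 4 (ZMod 2) x0 = 0 ∧ x0 ≠ 0 ∧ ∀ i ∈ OO, crd (e8 i) = x0 := by decide +kernel

/-- A vector from its bit mask. -/
def vB (m : ℕ) : Ix → ZMod 2 := fun j => if m.testBit (fl j) then 1 else 0

/-- The singular points. -/
def singFS : Finset (Ix → ZMod 2) := Finset.univ.filter fun v => quadFormPlus 4 (ZMod 2) v = 0 ∧ v ≠ 0

theorem card_singFS : singFS.card = 135 := by decide +kernel

theorem orbit_sub : orbit ↥CE x0 ⊆ ↑singFS := by
  rintro v ⟨g, rfl⟩
  simp only [singFS, Finset.coe_filter, Finset.mem_univ, true_and, Set.mem_ofPred_eq]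
  refine ⟨?_, fun h => x0_facts.2.1 ?_⟩
  · exact ((rho g).2 x0 x0).trans x0_facts.1
  · have e : x0 = g⁻¹ • g • x0 := (inv_smul_smul g x0).symm
    rw [e, show g • x0 = 0 from h]
    exact Matrix.mulVec_zero _

theorem perms_ok : inM24 permA = true ∧ inM24 permB = true ∧
    (∀ i, appPt permA (appPt permAInv i) = i) ∧ (∀ i, appPt permB (appPt permBInv i) = i) ∧
    (∀ k < 24, app permAInv k < 24) ∧ ∀ k < 24, app permBInv k < 24 := by
  decide +kernel

theorem sd_inC : Leech.InC (Golay24.setOf sdM) := mem_supports_iff_inCode.2 (by decide +kernel)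

theorem sxLab_ok : sxOk sxLab := by unfold sxOk; decide +kernel

/-- The generators. -/
def gEl : Fin 4 → ↥Co0 :=
  ![permCo (toPerm permA) (toPerm_mem_M24 perms_ok.1), permCo (toPerm permB) (toPerm_mem_M24 perms_ok.2.1),
    signCo (Golay24.setOf sdM) sd_inC, (sxOfList sxLab sxLab_ok).xiCo]

/-- The generators on lists. -/
def gLst : Fin 4 → List ℤ → List ℤ := ![pL permAInv, pL permBInv, sgnL sdM, xiL sxLab]

theorem ap_gEl (n : Fin 4) {l : List ℤ} (hl : vecOf l ∈ leechLattice) :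
    ap (gEl n) (vecOf l) = vecOf (gLst n l) := by
  obtain ⟨hA, hB, iA, iB, lA, lB⟩ := perms_ok
  fin_cases n
  · show ap (permCo (toPerm permA) (toPerm_mem_M24 perms_ok.1)) (vecOf l) = vecOf (pL permAInv l)
    rw [ap_perm_inv hA iA hl, pL_vecOf lA]
  · show ap (permCo (toPerm permB) (toPerm_mem_M24 perms_ok.2.1)) (vecOf l) = vecOf (pL permBInv l)
    rw [ap_perm_inv hB iB hl, pL_vecOf lB]
  · show ap (signCo (Golay24.setOf sdM) sd_inC) (vecOf l) = vecOf (sgnL sdM l)
    funext i
    rw [ap_signCo sd_inC hl, sgnL, vecOf_range]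
    simp only [Golay24.mem_setOf, vecOf]
  · show ap (sxOfList sxLab sxLab_ok).xiCo (vecOf l) = vecOf (xiL sxLab l)
    rw [Sx.ap_xiCo _ hl, xi_vecOf]

/-- A coordinate vector as a list. -/
abbrev eL (i : GolayPt) : List ℤ := Co3Out.e8L (idx i).val

theorem gens_comm : ∀ n (i : GolayPt), gLst n (sgnL octM (eL i)) = sgnL octM (gLst n (eL i)) := by
  decide +kernel

theorem gEl_mem (n : Fin 4) : gEl n ∈ CE := mem_CE.2 (Co3Out.ext_e8 fun i => by
  have hsg : ∀ {l : List ℤ}, vecOf l ∈ leechLattice → ap E0 (vecOf l) = vecOf (sgnL octM l) := fun {l} hl => by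
    funext j
    rw [E0, ap_signCo OO_inC hl, sgnL, vecOf_range]
    simp only [Golay24.mem_setOf, vecOf]
  have hi : vecOf (eL i) ∈ leechLattice := Co3Out.e8L_mem i
  have h1 : vecOf (sgnL octM (eL i)) ∈ leechLattice := hsg hi ▸ ap_mem _ hi
  have h2 : vecOf (gLst n (eL i)) ∈ leechLattice := ap_gEl n hi ▸ ap_mem _ hi
  rw [← Co3Out.e8L_eq i, ap_mul _ _ hi, ap_mul _ _ hi, hsg hi, ap_gEl n h1, ap_gEl n hi, hsg h2, gens_comm n i])

/-- The generators as table matrices. -/
def MT (n : Fin 4) : Matrix Ix Ix (ZMod 2) :=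
  Matrix.of fun j k => vB ((matL.getD n.val []).getD (fl k) 0) j

theorem gens_check : ∀ n j k, crd (vecOf (gLst n (bvL.getD (fl k) []))) j =
    vB ((matL.getD n.val []).getD (fl k) 0) j := by
  decide +kernel

theorem M_gEl (n : Fin 4) : M ⟨gEl n, gEl_mem n⟩ = MT n := by
  ext j k
  show crd (ap (gEl n) (bV k)) j = _
  rw [bV, ap_gEl n (LO_le (bV_mem k)).1, gens_check]
  rfl

theorem tree_ok : (∀ k : Fin 134, (orbTree.getD k.val (0, 0)).1 ≤ k.val ∧ (orbTree.getD k.val (0, 0)).2 < 4 ∧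
    MT ⟨(orbTree.getD k.val (0, 0)).2 % 4, Nat.mod_lt _ (by norm_num)⟩ *ᵥ
      vB (orbL.getD (orbTree.getD k.val (0, 0)).1 0) = vB (orbL.getD (k.val + 1) 0)) ∧
    vB (orbL.getD 0 0) = x0 ∧ (((List.range 135).map fun k => vB (orbL.getD k 0)).toFinset).card = 135 := by
  decide +kernel

theorem smul_eq (g : ↥CE) (v : Ix → ZMod 2) : g • v = M g *ᵥ v := rfl

attribute [local irreducible] MT vB crd orbit

theorem orbit_mem : ∀ k < 135, vB (orbL.getD k 0) ∈ orbit ↥CE x0 := by
  intro k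
  induction k using Nat.strong_induction_on with
  | _ k ih =>
    intro hk
    rcases Nat.eq_zero_or_pos k with rfl | hpos
    · rw [tree_ok.2.1]; exact mem_orbit_self _
    obtain ⟨k, rfl⟩ : ∃ m, k = m + 1 := ⟨k - 1, by omega⟩
    obtain ⟨h1, -, h3⟩ := tree_ok.1 ⟨k, by omega⟩
    simp only at h1 h3
    rw [← h3]
    generalize hn : (⟨(orbTree.getD k (0, 0)).2 % 4, Nat.mod_lt _ (by norm_num)⟩ : Fin 4) = n
    generalize hu : (orbTree.getD k (0, 0)).1 = u at h1 ⊢
    rw [← M_gEl n, ← smul_eq]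
    exact mem_orbit_of_mem_orbit (M := ↥CE) _ (ih u (by omega) (by omega))

theorem card_orbit : (orbit ↥CE x0).ncard = 135 := by
  refine le_antisymm ?_ ?_
  · have := Set.ncard_le_ncard orbit_sub (Finset.finite_toSet _)
    rwa [Set.ncard_coe_finset, card_singFS] at this
  · have hsub : (↑((List.range 135).map fun k => vB (orbL.getD k 0)).toFinset : Set (Ix → ZMod 2)) ⊆
        orbit ↥CE x0 := fun v hv => by
      obtain ⟨k, hk, rfl⟩ := List.mem_map.1 (List.mem_toFinset.1 hv)
      exact orbit_mem k (List.mem_range.1 hk)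
    have := Set.ncard_le_ncard hsub (Set.toFinite _)
    rwa [Set.ncard_coe_finset, tree_ok.2.2] at this

theorem cong_of_crd {a b : Vec} (ha : a ∈ LO) (hb : b ∈ LO) (h : crd a = crd b) : Cong a b := by
  have h0 : cHom (⟨a, ha⟩ - ⟨b, hb⟩ : ↥LO) = 0 := by rw [map_sub, cHom_apply, cHom_apply, h, sub_self]
  obtain ⟨w, hw⟩ := cHom_eq_zero h0
  refine ⟨w, (LO_le w.2).1, ?_⟩
  have := congrArg Subtype.val hw
  rw [AddSubgroup.coe_sub, AddSubgroup.coe_zsmul] at this
  rw [this, two_zsmul, two_nsmul]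

theorem crd_neg {a : Vec} (ha : a ∈ LO) : crd (-a) = crd a :=
  (cHom.map_neg ⟨a, ha⟩).trans (funext fun j => ZMod.neg_eq_self_mod_two _)

theorem stab_eq : stabilizer ↥CE x0 = frame.subgroupOf CE := by
  ext g
  rw [mem_stabilizer_iff, Subgroup.mem_subgroupOf]
  have hm := ap_LO g.2 (e8_LO none_mem)
  have e : g • x0 = crd (ap (g : ↥Co0) (e8 none)) := M_mulVec g ⟨_, e8_LO none_mem⟩
  rw [e]
  constructor
  · exact fun h => cong_of_crd hm (e8_LO none_mem) h
  · intro h
    obtain ⟨i, hi⟩ := cross_std (ap_mem _ (e8_mem none)) (by rw [ap_norm _ (e8_mem none), e8_norm]) h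
    have hiO : i ∈ OO := by
      by_contra hne
      have := (LO_le hm).2 i hne
      rcases hi with hi | hi <;> simp [hi, e8] at this
    rcases hi with hi | hi <;> rw [hi]
    · exact x0_facts.2.2 i hiO
    · rw [crd_neg (e8_LO hiO)]; exact x0_facts.2.2 i hiO

theorem mono_e8 (σ : Equiv.Perm GolayPt) (S : Finset GolayPt) (i : GolayPt) :
    mono σ S (e8 i) (σ i) ≠ 0 := by
  simp only [mono, e8, Equiv.symm_apply_apply, if_true]
  split <;> norm_num

theorem frame_comm_iff (g : ↥frame) :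
    (g : ↥Co0) ∈ CE ↔ (frameHom g : Equiv.Perm GolayPt) ∈ octStab OO := by
  obtain ⟨S, -, hg⟩ := frameHom_spec g
  set σ : Equiv.Perm GolayPt := (frameHom g : Equiv.Perm GolayPt)
  constructor
  · intro h
    refine ⟨(frameHom g).2, Finset.eq_of_subset_of_card_le (fun y hy => ?_)
      (le_of_eq (Finset.card_smul_finset σ OO).symm)⟩
    obtain ⟨i, hi, rfl⟩ := Finset.mem_smul_finset.1 hy
    by_contra hne
    have := (LO_le (ap_LO h (e8_LO hi))).2 _ hne
    rw [hg _ (e8_mem i)] at this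
    exact mono_e8 σ S i this
  · intro h
    refine mem_CE.2 (ext_ap fun x hx => funext fun i => ?_)
    rw [ap_mul _ _ hx, ap_mul _ _ hx, hg _ (ap_mem _ hx), E0, ap_signCo OO_inC (ap_mem _ hx), hg _ hx]
    simp only [mono]
    rw [ap_signCo OO_inC hx]
    have hiff : σ.symm i ∈ OO ↔ i ∈ OO := by
      have := octStab_iff h (σ.symm i)
      rw [Equiv.apply_symm_apply] at this
      exact this.symm
    by_cases h1 : i ∈ OO <;> by_cases h2 : i ∈ S <;> simp [h1, h2, hiff]

theorem card_stab : Nat.card ↥(frame.subgroupOf CE) = 4096 * 322560 := by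
  have e1 : Nat.card ↥(frame.subgroupOf CE) = Nat.card ↥(CE.subgroupOf frame) := by
    rw [← Subgroup.inf_subgroupOf_right frame CE, ← Subgroup.inf_subgroupOf_right CE frame,
      Nat.card_congr (Subgroup.subgroupOfEquivOfLe inf_le_right).toEquiv,
      Nat.card_congr (Subgroup.subgroupOfEquivOfLe inf_le_right).toEquiv, inf_comm]
  let H : Subgroup ↥M24 := (octStab OO).subgroupOf M24
  have e2 : CE.subgroupOf frame = H.comap frameHom := by
    ext g
    exact frame_comm_iff g
  have hH : Nat.card ↥H = 322560 := by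
    rw [Nat.card_congr (Subgroup.subgroupOfEquivOfLe (inf_le_left : octStab OO ≤ M24)).toEquiv,
      card_octStab OO_octad]
  have hi : H.index = 759 := by
    have := H.card_mul_index
    rw [hH, card_M24] at this
    omega
  have hc := (H.comap frameHom).card_mul_index
  rw [Subgroup.index_comap_of_surjective H frameHom_surjective, hi, card_frame] at hc
  rw [e1, e2]
  omega

theorem card_CE : Nat.card ↥CE = 178362777600 := by
  have h := Subgroup.card_mul_index (stabilizer ↥CE x0)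
  rw [index_stabilizer, card_orbit, stab_eq, card_stab] at h
  omega

end

end Cfsg.Agent.LeechCount.OctCent
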